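import Mathlib
import Groth.Prelude.Def_SGA3b
import Groth.Agent.Lib.Helper2.Hopf.OTEigen
import Groth.Agent.Lib.Helper2.Hopf.KillOrder2
import Groth.Agent.Lib.Helper6.MultType.PowConv
import Groth.Agent.Lib.Helper6.ClTriv.CT1

/-!
# Quasi-finite commutative group schemes are killed by an integer (helper6), part 1

The minimal-prime argument: if every fibre of `Spec C → Spec R` is killed by some power map
then so is `C`.  No noetherian hypothesis.
-/

set_option autoImplicit false
set_option linter.unusedSectionVars false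
set_option linter.unusedVariables false
set_option linter.unusedSimpArgs false
set_option linter.style.haveILetI false
set_option linter.overlappingInstances false
set_option maxHeartbeats 800000
set_option synthInstance.maxHeartbeats 400000

universe u
open TensorProduct SGA3b Coalgebra

namespace Groth.Agent.Lib.Helper6.QFKill

open Groth.Agent.Lib.Helper6

section minprime

variable {R : Type u} [CommRing R]

/-- spreading out an inclusion which holds after localising at a prime -/
lemma exists_mul_le_of_map_le (T : Ideal R) (q : Ideal R) [q.IsPrime] (𝔟 : Ideal R)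
    (hfg : 𝔟.FG)
    (h : 𝔟.map (algebraMap R (Localization.AtPrime q)) ≤
      T.map (algebraMap R (Localization.AtPrime q))) :
    ∃ t : R, t ∉ q ∧ Ideal.span {t} * 𝔟 ≤ T := by
  revert h
  refine Submodule.fg_induction (R := R) (M := R)
    (motive := fun (𝔟 : Ideal R) _ => 𝔟.map (algebraMap R (Localization.AtPrime q)) ≤
      T.map (algebraMap R (Localization.AtPrime q)) →
        ∃ t : R, t ∉ q ∧ Ideal.span {t} * 𝔟 ≤ T) ?_ ?_ 𝔟 hfg
  · intro x h
    have hx : algebraMap R (Localization.AtPrime q) x ∈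
        T.map (algebraMap R (Localization.AtPrime q)) :=
      h (Ideal.mem_map_of_mem _ (Submodule.mem_span_singleton_self x))
    rw [IsLocalization.mem_map_algebraMap_iff q.primeCompl (Localization.AtPrime q)] at hx
    obtain ⟨⟨a, m⟩, ham⟩ := hx
    rw [← map_mul, IsLocalization.eq_iff_exists q.primeCompl (Localization.AtPrime q)] at ham
    obtain ⟨c, hc⟩ := ham
    dsimp only at hc
    refine ⟨(c : R) * (m : R), fun hmem => ?_, ?_⟩
    · exact (Ideal.mem_primeCompl_iff.mp (q.primeCompl.mul_mem c.2 m.2)) hmem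
    · change Ideal.span {(c : R) * (m : R)} * Ideal.span {x} ≤ T
      rw [Ideal.span_singleton_mul_span_singleton, Ideal.span_singleton_le_iff_mem]
      have e : (c : R) * (m : R) * x = (c : R) * (x * (m : R)) := by ring
      rw [e, hc]
      exact T.mul_mem_left _ a.2
  · intro 𝔟₁ 𝔟₂ _ _ h₁ h₂ h
    obtain ⟨t₁, ht₁, h1⟩ := h₁ ((Ideal.map_mono le_sup_left).trans h)
    obtain ⟨t₂, ht₂, h2⟩ := h₂ ((Ideal.map_mono le_sup_right).trans h)
    refine ⟨t₁ * t₂, fun hmem => ?_, ?_⟩
    · rcases Ideal.IsPrime.mem_or_mem ‹q.IsPrime› hmem with h' | h'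
      · exact ht₁ h'
      · exact ht₂ h'
    · rw [Ideal.mul_sup]
      refine sup_le ?_ ?_
      · refine le_trans (Ideal.mul_mono_left ?_) h1
        rw [Ideal.span_singleton_le_span_singleton]
        exact Dvd.intro _ rfl
      · refine le_trans (Ideal.mul_mono_left ?_) h2
        rw [Ideal.span_singleton_le_span_singleton]
        exact Dvd.intro_left _ rfl

/-- a finitely generated ideal inside a minimal prime of `T` has a power lying in `T` up to an
element outside the prime -/
lemma exists_mul_pow_le (T : Ideal R) (q : Ideal R) [q.IsPrime] (hq : q ∈ T.minimalPrimes)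
    (𝔞 : Ideal R) (h𝔞 : 𝔞 ≤ q) (hfg : 𝔞.FG) :
    ∃ t : R, t ∉ q ∧ ∃ e : ℕ, Ideal.span {t} * 𝔞 ^ e ≤ T := by
  have h1 : 𝔞.map (algebraMap R (Localization.AtPrime q)) ≤
      (T.map (algebraMap R (Localization.AtPrime q))).radical := by
    rw [IsLocalization.AtPrime.radical_map_of_mem_minimalPrimes
      (A := Localization.AtPrime q) q T hq]
    exact Ideal.map_mono h𝔞
  obtain ⟨e, he⟩ := Ideal.exists_pow_le_of_le_radical_of_fg h1 (hfg.map _)
  rw [← Ideal.map_pow] at he
  obtain ⟨t, ht, h2⟩ := exists_mul_le_of_map_le T q (𝔞 ^ e) hfg.pow he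
  exact ⟨t, ht, e, h2⟩

end minprime

section Targ

variable {R : Type u} [CommRing R] {C : Type u} [CommRing C] [HopfAlgebra R C]

variable (R C) in
/-- the augmentation ideal -/
abbrev augI : Ideal C := RingHom.ker (Bialgebra.counitAlgHom R C)

lemma psi_mem (n : ℕ) {c : C} (hc : c ∈ augI R C) : powConv R C n c ∈ augI R C := by
  rw [ClTriv.mem_aug_iff] at hc ⊢
  rw [Groth.Agent.Helper2.OT.counit_powConv, hc]

lemma psi_comp (m n : ℕ) (c : C) :
    powConv R C (m * n) c = powConv R C m (powConv R C n c) := by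
  rw [← Groth.Agent.Helper2.OT.powConv_comp m n]
  rfl

lemma kills_left {r : R} {m : ℕ} (h : ∀ c ∈ augI R C, r • powConv R C m c = 0) (n : ℕ) :
    ∀ c ∈ augI R C, r • powConv R C (m * n) c = 0 := by
  intro c hc
  rw [psi_comp]
  exact h _ (psi_mem n hc)

lemma kills_right {r : R} {m : ℕ} (h : ∀ c ∈ augI R C, r • powConv R C m c = 0) (n : ℕ) :
    ∀ c ∈ augI R C, r • powConv R C (n * m) c = 0 := by
  intro c hc
  rw [psi_comp, ← map_smul, h c hc, map_zero]

variable (R C) in
/-- the ideal of the elements of `R` killing some torsion level -/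
def Tid : Ideal R where
  carrier := {r | ∃ m : ℕ, 0 < m ∧ ∀ c ∈ augI R C, r • powConv R C m c = 0}
  add_mem' := by
    rintro a b ⟨m, hm, ha⟩ ⟨n, hn, hb⟩
    refine ⟨m * n, Nat.mul_pos hm hn, fun c hc => ?_⟩
    rw [add_smul, kills_left ha n c hc, kills_right hb m c hc, add_zero]
  zero_mem' := ⟨1, one_pos, fun c _ => zero_smul _ _⟩
  smul_mem' := by
    rintro x a ⟨m, hm, ha⟩
    exact ⟨m, hm, fun c hc => by rw [smul_eq_mul, mul_smul, ha c hc, smul_zero]⟩

lemma mem_Tid {r : R} :
    r ∈ Tid R C ↔ ∃ m : ℕ, 0 < m ∧ ∀ c ∈ augI R C, r • powConv R C m c = 0 := Iff.rfl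

lemma exists_uniform (𝔟 : Ideal R) (hfg : 𝔟.FG) (h : 𝔟 ≤ Tid R C) :
    ∃ m : ℕ, 0 < m ∧ ∀ b ∈ 𝔟, ∀ c ∈ augI R C, b • powConv R C m c = 0 := by
  revert h
  refine Submodule.fg_induction (R := R) (M := R)
    (motive := fun (𝔟 : Ideal R) _ => 𝔟 ≤ Tid R C →
      ∃ m : ℕ, 0 < m ∧ ∀ b ∈ 𝔟, ∀ c ∈ augI R C, b • powConv R C m c = 0) ?_ ?_ 𝔟 hfg
  · intro x h
    obtain ⟨m, hm, hx⟩ := mem_Tid.mp (h (Submodule.mem_span_singleton_self x))
    refine ⟨m, hm, fun b hb c hc => ?_⟩
    obtain ⟨r, rfl⟩ := Submodule.mem_span_singleton.mp hb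
    rw [smul_eq_mul, mul_smul, hx c hc, smul_zero]
  · intro 𝔟₁ 𝔟₂ _ _ h₁ h₂ h
    obtain ⟨m₁, hm₁, k1⟩ := h₁ (le_sup_left.trans h)
    obtain ⟨m₂, hm₂, k2⟩ := h₂ (le_sup_right.trans h)
    refine ⟨m₁ * m₂, Nat.mul_pos hm₁ hm₂, fun b hb c hc => ?_⟩
    obtain ⟨b₁, hb₁, b₂, hb₂, rfl⟩ := Submodule.mem_sup.mp hb
    rw [add_smul, kills_left (k1 b₁ hb₁) m₂ c hc, kills_right (k2 b₂ hb₂) m₁ c hc, add_zero]

/-- the local step at a minimal prime of `Tid` -/
lemma local_step (q : Ideal R) [q.IsPrime] (hq : q ∈ (Tid R C).minimalPrimes)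
    (N : ℕ) (hN : 0 < N) (s : R) (hs : s ∉ q) (𝔞 : Ideal R) (h𝔞 : 𝔞 ≤ q) (hfg : 𝔞.FG)
    (hL : ∀ c ∈ augI R C, s • powConv R C N c ∈ 𝔞 • (augI R C).restrictScalars R) : False := by
  have hLe : ∀ e : ℕ, ∀ c ∈ augI R C,
      s ^ e • powConv R C (N ^ e) c ∈ 𝔞 ^ e • (augI R C).restrictScalars R := by
    intro e
    induction e with
    | zero =>
      intro c hc
      simp only [pow_zero, one_smul, Groth.Agent.Helper2.OT.powConv_one]
      exact hc
    | succ e ih =>
      intro c hc
      have hy := hL c hc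
      have e1 : s ^ (e + 1) • powConv R C (N ^ (e + 1)) c =
          s ^ e • powConv R C (N ^ e) (s • powConv R C N c) := by
        rw [pow_succ, pow_succ, psi_comp, mul_smul, map_smul]
      rw [e1]
      have hgen : ∀ y ∈ 𝔞 • (augI R C).restrictScalars R,
          s ^ e • powConv R C (N ^ e) y ∈ 𝔞 ^ (e + 1) • (augI R C).restrictScalars R := by
        intro y hy
        refine Submodule.smul_induction_on hy ?_ ?_
        · intro a ha i hi
          rw [map_smul, smul_comm, pow_succ', Submodule.mul_smul]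
          exact Submodule.smul_mem_smul ha (ih i hi)
        · intro x y hx hy
          rw [map_add, smul_add]
          exact Submodule.add_mem _ hx hy
      exact hgen _ hy
  obtain ⟨t, ht, e, hte⟩ := exists_mul_pow_le (Tid R C) q hq 𝔞 h𝔞 hfg
  obtain ⟨m, hm, hk⟩ := exists_uniform (Ideal.span {t} * 𝔞 ^ e)
    ((Submodule.fg_span_singleton t).mul hfg.pow) hte
  have hfin : t * s ^ e ∈ Tid R C := by
    refine ⟨m * N ^ e, Nat.mul_pos hm (pow_pos hN e), fun c hc => ?_⟩
    have hz := hLe e c hc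
    have e2 : (t * s ^ e) • powConv R C (m * N ^ e) c =
        t • powConv R C m (s ^ e • powConv R C (N ^ e) c) := by
      rw [psi_comp, mul_smul, map_smul]
    rw [e2]
    have hgen : ∀ z ∈ 𝔞 ^ e • (augI R C).restrictScalars R, t • powConv R C m z = 0 := by
      intro z hz
      refine Submodule.smul_induction_on hz ?_ ?_
      · intro b hb i hi
        rw [map_smul, smul_smul]
        exact hk (t * b) (Ideal.mul_mem_mul (Ideal.mem_span_singleton_self t) hb) i hi
      · intro x y hx hy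
        rw [map_add, smul_add, hx, hy, add_zero]
    exact hgen _ hz
  have hmem : t * s ^ e ∈ q := hq.1.2 hfin
  rcases Ideal.IsPrime.mem_or_mem ‹q.IsPrime› hmem with h | h
  · exact ht h
  · exact hs (Ideal.IsPrime.mem_of_pow_mem ‹q.IsPrime› e h)

/-- **The minimal-prime argument**: if at every prime some power map is locally trivial modulo a
finitely generated ideal inside the prime, then some power map is trivial. -/
theorem exists_kill
    (hfib : ∀ (q : Ideal R) [q.IsPrime], ∃ N : ℕ, 0 < N ∧ ∃ s : R, s ∉ q ∧ ∃ 𝔞 : Ideal R,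
      𝔞 ≤ q ∧ 𝔞.FG ∧
      ∀ c ∈ augI R C, s • powConv R C N c ∈ 𝔞 • (augI R C).restrictScalars R) :
    ∃ n : ℕ, 0 < n ∧ ∀ c : C, powConv R C n c = algebraMap R C (counit (R := R) c) := by
  by_cases h1 : (1 : R) ∈ Tid R C
  · obtain ⟨m, hm, hk⟩ := mem_Tid.mp h1
    refine ⟨m, hm, fun c => ?_⟩
    have h2 := hk _ (ClTriv.sub_counit_mem (R := R) c)
    rw [one_smul, map_sub, AlgHom.commutes, sub_eq_zero] at h2
    exact h2
  · exfalso
    have hne : Tid R C ≠ ⊤ := fun h => h1 ((Ideal.eq_top_iff_one _).mp h)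
    obtain ⟨M, hM, hle⟩ := Ideal.exists_le_maximal _ hne
    haveI := hM.isPrime
    obtain ⟨q, hq, -⟩ := Ideal.exists_minimalPrimes_le hle
    haveI : q.IsPrime := hq.1.1
    obtain ⟨N, hN, s, hs, 𝔞, h𝔞, hfg, hL⟩ := hfib q
    exact local_step q hq N hN s hs 𝔞 h𝔞 hfg hL

end Targ

end Groth.Agent.Lib.Helper6.QFKill
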