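import Mathlib
import Groth.Prelude.Def_SGA3b
import Groth.Agent.Lib.Helper6.QFKill.K1

/-!
# Quasi-finite commutative group schemes are killed by an integer (helper6), part 2

From a fibre to a neighbourhood; the fibres of a quasi-finite group; the theorem.
-/

set_option autoImplicit false
set_option linter.unusedSectionVars false
set_option linter.unusedVariables false
set_option linter.unusedSimpArgs false
set_option linter.style.haveILetI false
set_option linter.overlappingInstances false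
set_option maxHeartbeats 800000
set_option synthInstance.maxHeartbeats 400000

universe u
open TensorProduct SGA3b Coalgebra

namespace Groth.Agent.Lib.Helper6.QFKill

open Groth.Agent.Lib.Helper6

section Fibre

variable {R : Type u} [CommRing R] {C : Type u} [CommRing C] [Algebra R C]

attribute [local instance] Algebra.TensorProduct.rightAlgebra in
/-- the kernel of `C → κ(q) ⊗ C` -/
lemma exists_smul_mem_of_one_tmul_eq_zero (q : Ideal R) [q.IsPrime] (x : C)
    (hx : (1 : q.ResidueField) ⊗ₜ[R] x = 0) :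
    ∃ s : R, s ∉ q ∧ s • x ∈ Ideal.map (algebraMap R C) q := by
  have h1 := (Ideal.Fiber.algEquivAux₁ (S := C) q).commutes x
  have h2 : algebraMap C (q.Fiber C) x = (1 : q.ResidueField) ⊗ₜ[R] x := rfl
  rw [h2, hx, map_zero] at h1
  have h3 : algebraMap C (Localization (Algebra.algebraMapSubmonoid C q.primeCompl)) x ∈
      Ideal.map (algebraMap C (Localization (Algebra.algebraMapSubmonoid C q.primeCompl)))
        (Ideal.map (algebraMap R C) q) :=
    Ideal.Quotient.eq_zero_iff_mem.mp h1.symm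
  rw [IsLocalization.mem_map_algebraMap_iff (Algebra.algebraMapSubmonoid C q.primeCompl)
    (Localization (Algebra.algebraMapSubmonoid C q.primeCompl))] at h3
  obtain ⟨⟨a, m⟩, ham⟩ := h3
  rw [← map_mul, IsLocalization.eq_iff_exists (Algebra.algebraMapSubmonoid C q.primeCompl)
    (Localization (Algebra.algebraMapSubmonoid C q.primeCompl))] at ham
  obtain ⟨c, hc⟩ := ham
  dsimp only at hc
  obtain ⟨r1, hr1, hr1'⟩ := m.2
  obtain ⟨r2, hr2, hr2'⟩ := c.2
  refine ⟨r2 * r1, fun h => ?_, ?_⟩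
  · exact (Ideal.mem_primeCompl_iff.mp (q.primeCompl.mul_mem hr2 hr1)) h
  · have e : (r2 * r1) • x = (c : C) * (x * (m : C)) := by
      rw [← hr1', ← hr2', Algebra.smul_def, map_mul]
      ring
    rw [e, hc]
    exact Ideal.mul_mem_left _ _ a.2

/-- an element of `qC` lies in `𝔞C` for a finitely generated `𝔞 ≤ q` -/
lemma exists_fg_le_of_mem_map (q : Ideal R) {y : C} (hy : y ∈ Ideal.map (algebraMap R C) q) :
    ∃ 𝔞 : Ideal R, 𝔞 ≤ q ∧ 𝔞.FG ∧ y ∈ Ideal.map (algebraMap R C) 𝔞 := by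
  rw [Ideal.map] at hy
  refine Submodule.span_induction ?_ ?_ ?_ ?_ hy
  · rintro _ ⟨a, ha, rfl⟩
    exact ⟨Ideal.span {a}, (Ideal.span_singleton_le_iff_mem _).mpr ha,
      Submodule.fg_span_singleton a,
      Ideal.mem_map_of_mem _ (Ideal.mem_span_singleton_self a)⟩
  · exact ⟨⊥, bot_le, Submodule.fg_bot, Ideal.zero_mem _⟩
  · rintro x y _ _ ⟨𝔞₁, h1, f1, m1⟩ ⟨𝔞₂, h2, f2, m2⟩
    exact ⟨𝔞₁ ⊔ 𝔞₂, sup_le h1 h2, Submodule.FG.sup f1 f2,
      Ideal.add_mem _ (Ideal.map_mono le_sup_left m1) (Ideal.map_mono le_sup_right m2)⟩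
  · rintro c x _ ⟨𝔞, h1, f1, m1⟩
    exact ⟨𝔞, h1, f1, by rw [smul_eq_mul]; exact Ideal.mul_mem_left _ _ m1⟩

/-- descending the vanishing of `1 ⊗ x` along a field extension -/
lemma one_tmul_eq_zero_of_field_ext (κ K : Type u) [Field κ] [Field K] [Algebra R κ]
    [Algebra R K] [Algebra κ K] [IsScalarTower R κ K] (x : C)
    (h : (1 : K) ⊗ₜ[R] x = 0) : (1 : κ) ⊗ₜ[R] x = 0 := by
  have hinj : Function.Injective
      (Algebra.TensorProduct.includeRight : κ ⊗[R] C →ₐ[κ] K ⊗[κ] (κ ⊗[R] C)) :=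
    Algebra.TensorProduct.includeRight_injective (algebraMap κ K).injective
  apply hinj
  rw [map_zero]
  show (1 : K) ⊗ₜ[κ] ((1 : κ) ⊗ₜ[R] x) = 0
  apply (TensorProduct.AlgebraTensorModule.cancelBaseChange R κ K K C).injective
  rw [map_zero, TensorProduct.AlgebraTensorModule.cancelBaseChange_tmul, one_smul]
  exact h

end Fibre

section Hopf

variable {R : Type u} [CommRing R] {C : Type u} [CommRing C] [HopfAlgebra R C]

/-- from the fibre at `q` to a constructible neighbourhood of `q` -/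
lemma fibre_to_local (hIfg : (augI R C).FG) (q : Ideal R) [q.IsPrime] (N : ℕ)
    (hN : ∀ c ∈ augI R C, (1 : q.ResidueField) ⊗ₜ[R] powConv R C N c = 0) :
    ∃ s : R, s ∉ q ∧ ∃ 𝔞 : Ideal R, 𝔞 ≤ q ∧ 𝔞.FG ∧
      ∀ c ∈ augI R C, s • powConv R C N c ∈ 𝔞 • (augI R C).restrictScalars R := by
  have key : ∀ J : Ideal C, J.FG → J ≤ augI R C → ∃ s : R, s ∉ q ∧ ∃ 𝔞 : Ideal R,
      𝔞 ≤ q ∧ 𝔞.FG ∧ ∀ c ∈ J, s • powConv R C N c ∈ Ideal.map (algebraMap R C) 𝔞 := by
    intro J hJ
    refine Submodule.fg_induction (R := C) (M := C)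
      (motive := fun (J : Ideal C) _ => J ≤ augI R C → ∃ s : R, s ∉ q ∧ ∃ 𝔞 : Ideal R,
        𝔞 ≤ q ∧ 𝔞.FG ∧ ∀ c ∈ J, s • powConv R C N c ∈ Ideal.map (algebraMap R C) 𝔞)
      ?_ ?_ J hJ
    · intro x hx
      have hxI : x ∈ augI R C := hx (Submodule.mem_span_singleton_self x)
      obtain ⟨s, hs, h1⟩ := exists_smul_mem_of_one_tmul_eq_zero q _ (hN x hxI)
      obtain ⟨𝔞, h𝔞, hfg, h2⟩ := exists_fg_le_of_mem_map q h1
      refine ⟨s, hs, 𝔞, h𝔞, hfg, fun c hc => ?_⟩
      obtain ⟨a, rfl⟩ := Submodule.mem_span_singleton.mp hc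
      rw [smul_eq_mul, map_mul, ← mul_smul_comm]
      exact Ideal.mul_mem_left _ _ h2
    · intro J₁ J₂ _ _ h₁ h₂ h
      obtain ⟨s₁, hs₁, 𝔞₁, ha₁, f₁, k₁⟩ := h₁ (le_sup_left.trans h)
      obtain ⟨s₂, hs₂, 𝔞₂, ha₂, f₂, k₂⟩ := h₂ (le_sup_right.trans h)
      refine ⟨s₁ * s₂, ?_, 𝔞₁ ⊔ 𝔞₂, sup_le ha₁ ha₂, Submodule.FG.sup f₁ f₂, fun c hc => ?_⟩
      · intro hmem
        rcases Ideal.IsPrime.mem_or_mem ‹q.IsPrime› hmem with h' | h'
        · exact hs₁ h'
        · exact hs₂ h'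
      · obtain ⟨c₁, hc₁, c₂, hc₂, rfl⟩ := Submodule.mem_sup.mp hc
        rw [map_add, smul_add]
        refine Ideal.add_mem _ ?_ ?_
        · rw [mul_comm s₁ s₂, mul_smul]
          exact Submodule.smul_of_tower_mem _ s₂ (Ideal.map_mono le_sup_left (k₁ c₁ hc₁))
        · rw [mul_smul]
          exact Submodule.smul_of_tower_mem _ s₁ (Ideal.map_mono le_sup_right (k₂ c₂ hc₂))
  obtain ⟨s, hs, 𝔞, h𝔞, hfg, k⟩ := key (augI R C) hIfg le_rfl
  refine ⟨s, hs, 𝔞, h𝔞, hfg, fun c hc => ?_⟩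
  have h1 := k c hc
  have h2 : counit (R := R) (s • powConv R C N c) = 0 := by
    rw [map_smul, (ClTriv.mem_aug_iff _).mp (psi_mem N hc), smul_zero]
  have h3 := (ClTriv.counit_mem_of_mem_map 𝔞 h1).2
  rw [h2, map_zero, sub_zero] at h3
  rw [← Ideal.smul_restrictScalars 𝔞 (augI R C)]
  exact h3

/-- a finite group scheme over a field is killed by its order: the form used here -/
lemma kill_of_finite_field (k : Type u) [Field k] [Algebra R k] [Module.Finite k (k ⊗[R] C)] :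
    ∃ N : ℕ, 0 < N ∧ ∀ c ∈ augI R C, (1 : k) ⊗ₜ[R] powConv R C N c = 0 := by
  have hK := Groth.Agent.Helper2.KillOrder.convPow_finrank k (k ⊗[R] C)
  haveI : Nontrivial (k ⊗[R] C) := by
    refine ⟨⟨1, 0, fun h => ?_⟩⟩
    have h' := congrArg (Bialgebra.counitAlgHom k (k ⊗[R] C)) h
    rw [map_one, map_zero] at h'
    exact one_ne_zero h'
  refine ⟨Module.finrank k (k ⊗[R] C), Module.finrank_pos, fun c hc => ?_⟩
  have e1 : powConv k (k ⊗[R] C) (Module.finrank k (k ⊗[R] C)) = powConv k (k ⊗[R] C) 0 := by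
    unfold SGA3b.powConv
    rw [hK, pow_zero]
  rw [← MultType.powConv_one_tmul R k C, e1, MultType.powConv_one_tmul, MultType.powConv_zero,
    (ClTriv.mem_aug_iff c).mp hc, map_zero, TensorProduct.tmul_zero]

/-- **SGA 3 IX 6.?**: a quasi-finite affine group of finite presentation is killed by some
positive integer. -/
theorem exists_powConv_trivial_of_quasiFinite (hfp : Algebra.FinitePresentation R C)
    [Algebra.QuasiFinite R C] :
    ∃ n : ℕ, 0 < n ∧ ∀ c : C, powConv R C n c = algebraMap R C (counit (R := R) c) := by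
  have hft : Algebra.FiniteType R C := by
    haveI := hfp
    infer_instance
  have hIfg : (augI R C).FG := ClTriv.aug_fg hft
  apply exists_kill
  intro q hq
  obtain ⟨N, hN, hk⟩ := kill_of_finite_field (R := R) (C := C) q.ResidueField
  obtain ⟨s, hs, 𝔞, h𝔞, hfg, hL⟩ := fibre_to_local hIfg q N hk
  exact ⟨N, hN, s, hs, 𝔞, h𝔞, hfg, hL⟩

end Hopf

end Groth.Agent.Lib.Helper6.QFKill
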