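import Mathlib
import Groth.Prelude.Def_SGA3b
import Groth.Agent.Lib.Helper6.QFKill.K2
import Groth.Agent.Lib.Helper2.Hopf.PointTranslate
import Groth.Agent.Lib.Helper2.Sep.Tensor

/-!
# Quasi-finite commutative group schemes are killed by an integer (helper6), part 3

Homogeneity: an algebraic group over an algebraically closed field whose unit point is isolated is
finite.  Over a local base, a group of finite presentation with finite closed fibre is killed by
an integer.
-/

set_option autoImplicit false
set_option linter.unusedSectionVars false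
set_option linter.unusedVariables false
set_option linter.unusedSimpArgs false
set_option linter.style.haveILetI false
set_option linter.overlappingInstances false
set_option maxHeartbeats 800000
set_option synthInstance.maxHeartbeats 400000

universe u
open TensorProduct SGA3b Coalgebra

namespace Groth.Agent.Lib.Helper6.QFKill

open Groth.Agent.Lib.Helper6
open Groth.Agent.Helper2.HopfLib WithConv

section Homog

variable {k : Type u} [Field k] {F : Type u} [CommRing F] [HopfAlgebra k F]

/-- translation by a rational point, as an automorphism -/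
noncomputable def trEquiv (χ : F →ₐ[k] k) : F ≃ₐ[k] F :=
  AlgEquiv.ofAlgHom (trP χ) (trP ((toConv χ)⁻¹).ofConv)
    (by
      have h := trP_inv_comp (((toConv χ)⁻¹).ofConv)
      rwa [toConv_ofConv, inv_inv, ofConv_toConv] at h)
    (trP_inv_comp χ)

lemma trEquiv_apply (χ : F →ₐ[k] k) (a : F) : trEquiv χ a = trP χ a := rfl

/-- **Homogeneity**: an algebraic group over an algebraically closed field which is quasi-finite
at the unit point is finite. -/
theorem finite_of_quasiFiniteAt_aug [IsAlgClosed k] [Algebra.FiniteType k F]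
    (Q : Ideal F) [Q.IsPrime] (hQ : Q = RingHom.ker (Bialgebra.counitAlgHom k F))
    [Algebra.QuasiFiniteAt k Q] : Module.Finite k F := by
  have hmax : ∀ (𝔫 : Ideal F) [𝔫.IsMaximal], Algebra.QuasiFiniteAt k 𝔫 := by
    intro 𝔫 h𝔫
    obtain ⟨χ, hχ⟩ := Groth.Agent.Helper2.Sep.exists_algHom_ker_eq (k := k) 𝔫
    have h1 : 𝔫 = Q.comap (trEquiv χ).toRingHom := by
      ext a
      rw [← hχ, RingHom.mem_ker, Ideal.mem_comap, hQ, RingHom.mem_ker]
      show χ a = 0 ↔ Coalgebra.counit (R := k) (trP χ a) = 0
      rw [counit_trP]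
    subst h1
    exact Algebra.QuasiFiniteAt.comap_algEquiv (R := k) Q (trEquiv χ)
  have hall : ∀ (P : Ideal F) [P.IsPrime], Algebra.QuasiFiniteAt k P := by
    intro P hP
    obtain ⟨𝔫, h𝔫, hle⟩ := Ideal.exists_le_maximal P hP.ne_top
    haveI := h𝔫
    haveI := hmax 𝔫
    exact Algebra.QuasiFiniteAt.of_le (R := k) hle
  haveI : DiscreteTopology (PrimeSpectrum F) := by
    rw [discreteTopology_iff_isOpen_singleton]
    intro x
    haveI := hall x.asIdeal
    exact (Algebra.QuasiFiniteAt.isClopen_singleton (R := k) x).isOpen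
  haveI : Finite (PrimeSpectrum F) := finite_of_compact_of_discrete
  haveI : Algebra.QuasiFinite k F :=
    Algebra.QuasiFinite.iff_finite_comap_preimage_singleton.mpr (fun P => Set.toFinite _)
  exact Module.Finite.of_quasiFinite

end Homog

section Local

variable {R : Type u} [CommRing R] {C : Type u} [CommRing C] [HopfAlgebra R C]

lemma comap_includeRight_aug (K : Type u) [Field K] [Algebra R K] :
    (RingHom.ker (Bialgebra.counitAlgHom K (K ⊗[R] C))).comap
      (Algebra.TensorProduct.includeRight : C →ₐ[R] K ⊗[R] C).toRingHom =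
    Ideal.comap (Bialgebra.counitAlgHom R C) (RingHom.ker (algebraMap R K)) := by
  ext c
  rw [Ideal.mem_comap, RingHom.mem_ker, Ideal.mem_comap, RingHom.mem_ker]
  show Coalgebra.counit (R := K) ((1 : K) ⊗ₜ[R] c) = 0 ↔
    algebraMap R K (Coalgebra.counit (R := R) c) = 0
  rw [MultType.counit_one_tmul]

/-- **SGA 3 IX 6.?**, core: over a local base, an affine group of finite presentation whose
closed fibre is finite is killed by some positive integer. -/
theorem exists_powConv_trivial_of_closedFibre_finite [IsLocalRing R]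
    (hfp : Algebra.FinitePresentation R C)
    (hs : Module.Finite (IsLocalRing.ResidueField R) (IsLocalRing.ResidueField R ⊗[R] C)) :
    ∃ n : ℕ, 0 < n ∧ ∀ c : C, powConv R C n c = algebraMap R C (counit (R := R) c) := by
  haveI hft : Algebra.FiniteType R C := by
    haveI := hfp
    infer_instance
  have hIfg : (augI R C).FG := ClTriv.aug_fg hft
  -- the closed fibre over the residue field of the localisation
  haveI hfin : Module.Finite (IsLocalRing.maximalIdeal R).ResidueField
      ((IsLocalRing.maximalIdeal R).ResidueField ⊗[R] C) := by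
    have hs' : Module.Finite (R ⧸ IsLocalRing.maximalIdeal R)
        ((R ⧸ IsLocalRing.maximalIdeal R) ⊗[R] C) := hs
    haveI := hs'
    exact Module.Finite.equiv
      (TensorProduct.AlgebraTensorModule.cancelBaseChange R (R ⧸ IsLocalRing.maximalIdeal R)
        (IsLocalRing.maximalIdeal R).ResidueField (IsLocalRing.maximalIdeal R).ResidueField C)
  -- quasi-finiteness at the unit point of the closed fibre
  let Q : Ideal ((IsLocalRing.maximalIdeal R).ResidueField ⊗[R] C) :=
    RingHom.ker (Bialgebra.counitAlgHom (IsLocalRing.maximalIdeal R).ResidueField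
      ((IsLocalRing.maximalIdeal R).ResidueField ⊗[R] C))
  haveI hQp : Q.IsPrime := RingHom.ker_isPrime _
  let 𝔮 : Ideal C := Ideal.comap (Bialgebra.counitAlgHom R C) (IsLocalRing.maximalIdeal R)
  haveI h𝔮p : 𝔮.IsPrime := Ideal.comap_isPrime _ _
  have hQ : Q.comap (Algebra.TensorProduct.includeRight :
      C →ₐ[R] (IsLocalRing.maximalIdeal R).ResidueField ⊗[R] C).toRingHom = 𝔮 := by
    rw [comap_includeRight_aug, Ideal.ker_algebraMap_residueField]
  haveI : 𝔮.LiesOver (IsLocalRing.maximalIdeal R) := ⟨by
    ext r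
    show r ∈ IsLocalRing.maximalIdeal R ↔
      (Bialgebra.counitAlgHom R C) (algebraMap R C r) ∈ IsLocalRing.maximalIdeal R
    rw [AlgHom.commutes, Algebra.algebraMap_self_apply]⟩
  haveI : Algebra.QuasiFiniteAt (IsLocalRing.maximalIdeal R).ResidueField Q :=
    Algebra.QuasiFinite.of_isLocalization (R := (IsLocalRing.maximalIdeal R).ResidueField)
      (S := (IsLocalRing.maximalIdeal R).ResidueField ⊗[R] C) Q.primeCompl
  haveI h𝔮qf : Algebra.QuasiFiniteAt R 𝔮 :=
    Algebra.QuasiFiniteAt.of_quasiFiniteAt_residueField (IsLocalRing.maximalIdeal R) 𝔮 Q hQ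
  -- the fibres
  apply exists_kill
  intro p hp
  let 𝔮p : Ideal C := Ideal.comap (Bialgebra.counitAlgHom R C) p
  haveI : 𝔮p.IsPrime := Ideal.comap_isPrime _ _
  have hle : 𝔮p ≤ 𝔮 := Ideal.comap_mono (IsLocalRing.le_maximalIdeal hp.ne_top)
  haveI : Algebra.QuasiFiniteAt R 𝔮p := Algebra.QuasiFiniteAt.of_le (R := R) hle
  let K := AlgebraicClosure p.ResidueField
  let Qb : Ideal (K ⊗[R] C) := RingHom.ker (Bialgebra.counitAlgHom K (K ⊗[R] C))
  haveI : Qb.IsPrime := RingHom.ker_isPrime _
  have hker : RingHom.ker (algebraMap R K) = p := by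
    ext x
    rw [RingHom.mem_ker, IsScalarTower.algebraMap_apply R p.ResidueField K,
      map_eq_zero_iff _ (algebraMap p.ResidueField K).injective,
      Ideal.algebraMap_residueField_eq_zero]
  have hq : 𝔮p = Qb.comap (Algebra.TensorProduct.includeRight : C →ₐ[R] K ⊗[R] C).toRingHom := by
    rw [comap_includeRight_aug, hker]
  haveI : Algebra.QuasiFiniteAt K Qb := Algebra.QuasiFiniteAt.baseChange 𝔮p Qb hq
  haveI : Module.Finite K (K ⊗[R] C) := finite_of_quasiFiniteAt_aug Qb rfl
  obtain ⟨N, hN, hk⟩ := kill_of_finite_field (R := R) (C := C) K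
  have hk' : ∀ c ∈ augI R C, (1 : p.ResidueField) ⊗ₜ[R] powConv R C N c = 0 := by
    intro c hc
    exact one_tmul_eq_zero_of_field_ext p.ResidueField K _ (hk c hc)
  obtain ⟨s, hs', 𝔞, h𝔞, hfg, hL⟩ := fibre_to_local hIfg p N hk'
  exact ⟨N, hN, s, hs', 𝔞, h𝔞, hfg, hL⟩

/-- **SGA 3 IX 6.?**: over a local base, a closed subgroup of finite presentation with finite
closed fibre of an affine group lies in some torsion subgroup. -/
theorem torsionIdeal_le_of_closedFibre_finite [IsLocalRing R] (J : Ideal C) [J.IsHopfIdeal R]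
    (hfp : Algebra.FinitePresentation R (C ⧸ J))
    (hs : Module.Finite (IsLocalRing.ResidueField R) (IsLocalRing.ResidueField R ⊗[R] (C ⧸ J))) :
    ∃ n : ℕ, 0 < n ∧ torsionIdeal R C n ≤ J := by
  obtain ⟨n, hn, hk⟩ := exists_powConv_trivial_of_closedFibre_finite (R := R) (C := C ⧸ J) hfp hs
  refine ⟨n, hn, ?_⟩
  rw [torsionIdeal, Ideal.map_le_iff_le_comap]
  intro a ha
  rw [Ideal.mem_comap, ← Ideal.Quotient.eq_zero_iff_mem]
  have h1 := MultType.bialgHom_powConv (Bialgebra.Quotient.mkBialgHom (R := R) J) n a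
  have h2 : counit (R := R) ((Bialgebra.Quotient.mkBialgHom (R := R) J) a) = 0 := by
    rw [CoalgHomClass.counit_comp_apply]
    exact (ClTriv.mem_aug_iff a).mp ha
  rw [hk, h2, map_zero] at h1
  exact h1

end Local

end Groth.Agent.Lib.Helper6.QFKill
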